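import Cfsg.Agent.H511.Ore.WRow_m3
import Cfsg.Agent.H677.CodPrime
import Cfsg.Agent.Prune
set_option linter.all false
prune_inst 0x7f00000000000000000000000000000000000000000000000000000000000000000000000000000000000000000000000000000000000000000000000000000000000000000000000000000000000000003fffffffffffffffffffffffffffbeffbdffffffff
open scoped Cfsg.Agent.FastGrp

/-!
# Tools for the rows: columns from the orders of centralizers, transport
-/

set_option autoImplicit false

open Cfsg Subgroup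

namespace Cfsg.Agent.H651.Two

open Cfsg.Agent.H653.Sieve Cfsg.Agent.Characters.Core Cfsg.Agent.H596.OneFacts

universe u v

/-- The column of `r` exists, by one element. -/
theorem has_of {G : Type u} [Group G] {d : CD} {x : G} (hr : Nat.Prime d.r) (hx : orderOf x = d.r)
    (h : Nat.card (centralizer ({x} : Set G)) = d.r * d.k) : d.Has G := ⟨hr, x, hx, h⟩

/-- The column of `r` exists: all elements of order `r` have this centralizer order. -/
theorem has_of_forall {G : Type u} [Group G] [Finite G] {d : CD} (hr : Nat.Prime d.r)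
    (hd : d.r ∣ Nat.card G)
    (h : ∀ x : G, orderOf x = d.r → Nat.card (centralizer ({x} : Set G)) = d.r * d.k) : d.Has G := by
  have : Fact d.r.Prime := ⟨hr⟩
  obtain ⟨x, hx⟩ := exists_prime_orderOf_dvd_card' d.r hd
  exact ⟨hr, x, hx, h x hx⟩

theorem cent_zpowers {G : Type u} [Group G] (x : G) :
    centralizer ((zpowers x : Subgroup G) : Set G) = centralizer ({x} : Set G) := by
  rw [zpowers_eq_closure, centralizer_closure]

/-- The column of `r` exists: all subgroups of order `r` have this centralizer order. -/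
theorem has_of_sub {G : Type u} [Group G] [Finite G] {d : CD} (hr : Nat.Prime d.r)
    (hd : d.r ∣ Nat.card G)
    (h : ∀ R : Subgroup G, Nat.card R = d.r → Nat.card (centralizer (R : Set G)) = d.r * d.k) :
    d.Has G := by
  refine has_of_forall hr hd fun x hx => ?_
  rw [← cent_zpowers]
  exact h _ (by rw [Nat.card_zpowers, hx])

/-- The row for all groups isomorphic to `H`. -/
theorem twoOr_of {p : ℕ} {S : Type u} {H : Type v} [Group S] [Group H] (e : Nonempty (S ≃* H))
    (hd : p ∣ Nat.card S) (h : p ∣ Nat.card H → Two p H) : TwoOr p S := by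
  obtain ⟨e⟩ := e
  exact .inl (two_of_equiv e (h (by rwa [← Nat.card_congr e.toEquiv])))

/-- The prime divisors of a factored number. -/
theorem prime_mem {p N : ℕ} (hp : p.Prime) {L : List (ℕ × ℕ)}
    (hL : (L.all fun pa => Nat.Prime pa.1) = true) (hLN : facProd L = N) (hd : p ∣ N) :
    p ∈ L.map Prod.fst := by
  subst hLN
  induction L with
  | nil =>
    rw [show facProd ([] : List (ℕ × ℕ)) = 1 from rfl] at hd
    exact absurd (Nat.dvd_one.1 hd) hp.one_lt.ne'
  | cons a L ih =>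
    rw [List.all_cons, Bool.and_eq_true, decide_eq_true_eq] at hL
    rw [List.map_cons, List.mem_cons]
    rw [show facProd (a :: L) = a.1 ^ a.2 * facProd L from rfl] at hd
    rcases (Nat.Prime.dvd_mul hp).1 hd with h | h
    · exact .inl ((Nat.prime_dvd_prime_iff_eq hp hL.1).1 (hp.dvd_of_dvd_pow h))
    · exact .inr (ih hL.2 h)

/-- Two known degrees. -/
theorem two_of_degs {p : ℕ} {G : Type u} [Group G] {a b : ℕ}
    (ha : ∃ χ : IrrCharacter G, charDegree (χ : G → ℂ) = a)
    (hb : ∃ χ : IrrCharacter G, charDegree (χ : G → ℂ) = b) (hpa : p ∣ a) (hpb : p ∣ b) (h : a ≠ b) :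
    Two p G := by
  obtain ⟨α, hα⟩ := ha
  obtain ⟨β, hβ⟩ := hb
  exact two_of_degree_ne α β (hα ▸ hpa) (hβ ▸ hpb) (by rw [hα, hβ]; exact h)

/-- A known degree and a known divisor of a degree. -/
theorem two_of_deg_dvd {p : ℕ} {G : Type u} [Group G] {a m : ℕ}
    (ha : ∃ χ : IrrCharacter G, charDegree (χ : G → ℂ) = a)
    (hm : ∃ χ : IrrCharacter G, m ∣ charDegree (χ : G → ℂ)) (hpa : p ∣ a) (hpm : p ∣ m) (h : ¬ m ∣ a) :
    Two p G := by
  obtain ⟨α, hα⟩ := ha
  obtain ⟨β, hβ⟩ := hm
  exact two_of_degree_ne α β (hα ▸ hpa) (hpm.trans hβ) (fun he => h (by rw [← hα, he]; exact hβ))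

/-- If all characters of degree divisible by `p` had the same degree, it would be divisible by all
degrees of `L`. -/
theorem two_of_dvd {p : ℕ} {G : Type u} [Group G] [Finite G] [Nontrivial G] {L : List ℕ}
    (hp : ∀ m ∈ L, p ∣ m) (h : ∀ m ∈ L, ∃ χ : IrrCharacter G, m ∣ charDegree (χ : G → ℂ)) (hL : L ≠ [])
    (hd : ∀ d : ℕ, 0 < d → (∀ m ∈ L, m ∣ d) → d * d < Nat.card G → d ∣ Nat.card G → False) : Two p G := by
  by_contra hcon
  have key : ∀ m₁ ∈ L, ∀ m₂ ∈ L, ∀ χ₁ χ₂ : IrrCharacter G, m₁ ∣ charDegree (χ₁ : G → ℂ) →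
      m₂ ∣ charDegree (χ₂ : G → ℂ) → charDegree (χ₁ : G → ℂ) = charDegree (χ₂ : G → ℂ) := by
    intro m₁ h₁ m₂ h₂ χ₁ χ₂ d₁ d₂
    by_contra hne
    exact hcon (two_of_degree_ne χ₁ χ₂ ((hp m₁ h₁).trans d₁) ((hp m₂ h₂).trans d₂) hne)
  obtain ⟨m₀, hm₀⟩ := List.exists_mem_of_ne_nil L hL
  obtain ⟨χ₀, hχ₀⟩ := h m₀ hm₀
  refine hd (charDegree (χ₀ : G → ℂ)) (Cfsg.Agent.Blocks.Basic.charDegree_pos χ₀.2) (fun m hm => ?_) ?_ ?_
  · obtain ⟨χ, hχ⟩ := h m hm
    rwa [key m₀ hm₀ m hm χ₀ χ hχ₀ hχ]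
  · have := H677.CodPrime.charDegree_sq_lt χ₀
    rwa [pow_two] at this
  · exact H677.CodPrime.charDegree_dvd_card χ₀

/-- If the degrees in `L` (divisible by `p`) have a least common multiple `M` with `|G| ≤ M ^ 2`. -/
theorem two_of_lcm {p : ℕ} {G : Type u} [Group G] [Finite G] [Nontrivial G] {L : List ℕ} {N M : ℕ}
    (hN : Nat.card G = N) (hp : (L.all fun m => m % p == 0) = true)
    (h : ∀ m ∈ L, ∃ χ : IrrCharacter G, m ∣ charDegree (χ : G → ℂ))
    (hM : (M == L.foldr Nat.lcm 1 && N ≤ M * M) = true) (hL : L ≠ []) : Two p G := by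
  rw [Bool.and_eq_true, beq_iff_eq, decide_eq_true_eq] at hM
  have hl : ∀ (L : List ℕ) (d : ℕ), (∀ m ∈ L, m ∣ d) → L.foldr Nat.lcm 1 ∣ d := by
    intro L d
    induction L with
    | nil => intro _; exact one_dvd _
    | cons a L ih =>
      intro h
      exact Nat.lcm_dvd (h a List.mem_cons_self) (ih fun m hm => h m (List.mem_cons_of_mem _ hm))
  refine two_of_dvd (fun m hm => ?_) h hL fun d h4 h1 h2 _ => ?_
  · have := List.all_eq_true.1 hp m hm
    exact Nat.dvd_of_mod_eq_zero (by simpa using this)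
  · have h3 := hl L d h1
    rw [← hM.1] at h3
    have h5 := Nat.le_of_dvd h4 h3
    have := Nat.mul_le_mul h5 h5
    omega

end Cfsg.Agent.H651.Two
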